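import Mathlib
import Groth.Prelude.Def_ChGrp
import Groth.Agent.Lib.Helper4.GrpKer2

/-!
# The stabilizer part over a conjugacy class is a balanced product (S19098) (helper2)
-/

set_option backward.isDefEq.respectTransparency.types false
set_option synthInstance.maxHeartbeats 400000
set_option maxHeartbeats 4000000
set_option autoImplicit false
set_option linter.unusedSectionVars false
set_option linter.style.haveILetI false
set_option linter.unusedVariables false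
set_option linter.unusedSimpArgs false
set_option linter.unnecessarySimpa false
universe u

namespace Groth.Agent.Helper2.BalStab

section PureGroup
variable {M : Type*} [Group M]

theorem grp1 (g z t : M) (hc : z * t * z⁻¹ = t) : (g * z⁻¹) * t * (g * z⁻¹)⁻¹ = g * t * g⁻¹ := by
  have h2 : z * t = t * z := mul_inv_eq_iff_eq_mul.mp hc
  have h3 : z⁻¹ * t * z = t := by rw [mul_assoc, ← h2, inv_mul_cancel_left]
  have h4 : (g * z⁻¹) * t * (g * z⁻¹)⁻¹ = g * (z⁻¹ * t * z) * g⁻¹ := by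
    simp only [mul_inv_rev, inv_inv, mul_assoc]
  rw [h4, h3]

theorem grp2 (k g t : M) : (k * g) * t * (k * g)⁻¹ = k * (g * t * g⁻¹) * k⁻¹ := by
  simp only [mul_inv_rev, mul_assoc]

theorem grp3 (k t : M) : t * k⁻¹ = k⁻¹ * (k * t * k⁻¹) := by
  simp only [mul_assoc, inv_mul_cancel_left]

theorem grp4 {g g' z : M} (h : g = g' * z) : g' = g * z⁻¹ := eq_mul_inv_of_mul_eq h.symm

theorem grp5 {g z z' : M} (h : g * z⁻¹ = g * z'⁻¹) : z = z' := inv_injective (mul_left_cancel h)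

end PureGroup

open CategoryTheory CategoryTheory.Limits AlgebraicGeometry
open MonoidalCategory CartesianMonoidalCategory MonObj GrpObj
open Groth.Agent.Lib.Helper4.GrpKer2

variable {S : Scheme.{u}}

theorem decomp {A B T : Over S} (p : T ⟶ A ⊗ B) : ∃ (g : T ⟶ A) (x : T ⟶ B), p = lift g x :=
  ⟨p ≫ fst _ _, p ≫ snd _ _, (lift_comp_fst_snd p).symm⟩

theorem act_cancel {G X : Over S} [GrpObj G] (a : AlgGrp.Action G X) {T : Over S} (g : T ⟶ G)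
    (u v : T ⟶ X) (huv : lift g u ≫ a.act = lift g v ≫ a.act) : u = v := by
  have e : ∀ w : T ⟶ X, lift g⁻¹ (lift g w ≫ a.act) ≫ a.act = w := fun w => by
    rw [← AlgGrp.Action.lift_mul_act, inv_mul_cancel, AlgGrp.Action.lift_one_act]
  rw [← e u, huv, e v]

/-- The hypotheses of S19098. -/
structure Dat {G X Z Ψ Xh SΨ : Over S} [GrpObj G] [GrpObj Z]
    (a : AlgGrp.Action G X) (h : 𝟙_ (Over S) ⟶ G) (i : Z ⟶ G) [IsMonHom i]
    (ψ : Ψ ⟶ G) (aΨ : AlgGrp.Action G Ψ) (o : 𝟙_ (Over S) ⟶ Ψ)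
    (incl : Xh ⟶ X) (aXh : AlgGrp.Action Z Xh) (σ : SΨ ⟶ G ⊗ X) (aS : AlgGrp.Action G SΨ)
    (Φ : G ⊗ Xh ⟶ SΨ) : Prop where
  mψ : Mono ψ
  hψ : aΨ.act ≫ ψ = fst G Ψ * (snd G Ψ ≫ ψ) * (fst G Ψ)⁻¹
  ho : o ≫ ψ = h
  hhom : ChGrp.IsHomog Scheme.fppfPrecoverage i aΨ o
  mincl : Mono incl
  hXh : ∀ (T : Over S) (x : T ⟶ X),
    (∃ y : T ⟶ Xh, y ≫ incl = x) ↔ lift (toUnit T ≫ h) x ≫ a.act = x
  hincl : AlgGrp.Action.IsEquivariant aXh (a.restrict i) incl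
  mσ : Mono σ
  hSΨ : ∀ (T : Over S) (g : T ⟶ G) (x : T ⟶ X),
    (∃ q : T ⟶ SΨ, q ≫ σ = lift g x) ↔ ((∃ y : T ⟶ Ψ, y ≫ ψ = g) ∧ lift g x ≫ a.act = x)
  hσ : aS.act ≫ σ = lift (fst G SΨ * (snd G SΨ ≫ σ ≫ fst G X) * (fst G SΨ)⁻¹)
    (lift (fst G SΨ) (snd G SΨ ≫ σ ≫ snd G X) ≫ a.act)
  hΦ : Φ ≫ σ = lift (fst G Xh * (toUnit (G ⊗ Xh) ≫ h) * (fst G Xh)⁻¹)
    (lift (fst G Xh) (snd G Xh ≫ incl) ≫ a.act)

namespace Dat

variable {G X Z Ψ Xh SΨ : Over S} [GrpObj G] [GrpObj Z]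
  {a : AlgGrp.Action G X} {h : 𝟙_ (Over S) ⟶ G} {i : Z ⟶ G} [IsMonHom i]
  {ψ : Ψ ⟶ G} {aΨ : AlgGrp.Action G Ψ} {o : 𝟙_ (Over S) ⟶ Ψ}
  {incl : Xh ⟶ X} {aXh : AlgGrp.Action Z Xh} {σ : SΨ ⟶ G ⊗ X} {aS : AlgGrp.Action G SΨ}
  {Φ : G ⊗ Xh ⟶ SΨ} (D : Dat a h i ψ aΨ o incl aXh σ aS Φ)

include D

theorem psi_act {T : Over S} (g : T ⟶ G) (y : T ⟶ Ψ) :
    (lift g y ≫ aΨ.act) ≫ ψ = g * (y ≫ ψ) * g⁻¹ := by
  rw [Category.assoc, D.hψ, comp_mul, comp_mul, comp_inv, lift_fst, lift_snd_assoc]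

theorem psi_orb {T : Over S} (g : T ⟶ G) :
    (g ≫ aΨ.orbitMap o) ≫ ψ = g * (toUnit T ≫ h) * g⁻¹ := by
  rw [AlgGrp.Action.comp_orbitMap, D.psi_act, Category.assoc, D.ho]

omit D in
theorem mu_pt {T : Over S} (g : T ⟶ G) (z : T ⟶ Z) :
    lift g z ≫ (G ◁ i) ≫ μ[G] = g * (z ≫ i) := by
  rw [lift_whiskerLeft_assoc, ← Hom.mul_def]

theorem orb_mul {T : Over S} (g : T ⟶ G) (z : T ⟶ Z) :
    (g * (z ≫ i)) ≫ aΨ.orbitMap o = g ≫ aΨ.orbitMap o := by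
  have w := D.hhom.2.1.w
  have e := congrArg (fun m => lift g z ≫ m) w
  have e1 : lift g z ≫ fst G Z ≫ aΨ.orbitMap o = g ≫ aΨ.orbitMap o := by rw [lift_fst_assoc]
  have e2 : lift g z ≫ ((G ◁ i) ≫ μ[G]) ≫ aΨ.orbitMap o = (g * (z ≫ i)) ≫ aΨ.orbitMap o := by
    rw [← Category.assoc, mu_pt]
  exact e2.symm.trans (e.symm.trans e1)

theorem central {T : Over S} (z : T ⟶ Z) :
    (z ≫ i) * (toUnit T ≫ h) * (z ≫ i)⁻¹ = toUnit T ≫ h := by
  have e : (((1 : T ⟶ G) * (z ≫ i)) ≫ aΨ.orbitMap o) ≫ ψ = ((1 : T ⟶ G) ≫ aΨ.orbitMap o) ≫ ψ :=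
    congrArg (fun m => m ≫ ψ) (D.orb_mul (1 : T ⟶ G) z)
  rw [D.psi_orb, D.psi_orb] at e
  simpa only [_root_.one_mul, _root_.mul_one, inv_one] using e

theorem exists_of_conj_eq {T : Over S} (g g' : T ⟶ G)
    (e : g * (toUnit T ≫ h) * g⁻¹ = g' * (toUnit T ≫ h) * g'⁻¹) :
    ∃ z : T ⟶ Z, g' = g * (z ≫ i) := by
  haveI := D.mψ
  have e1 : g ≫ aΨ.orbitMap o = g' ≫ aΨ.orbitMap o := by
    rw [← cancel_mono ψ, D.psi_orb, D.psi_orb, e]
  refine ⟨D.hhom.2.1.lift g g' e1 ≫ snd G Z, ?_⟩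
  have e2 : D.hhom.2.1.lift g g' e1 = lift g (D.hhom.2.1.lift g g' e1 ≫ snd G Z) := by
    apply CartesianMonoidalCategory.hom_ext
    · rw [lift_fst, D.hhom.2.1.lift_fst]
    · rw [lift_snd]
  have e3 := D.hhom.2.1.lift_snd g g' e1
  rw [e2, mu_pt] at e3
  exact e3.symm

theorem z_unique {T : Over S} (z z' : T ⟶ Z) (e : z ≫ i = z' ≫ i) : z = z' := by
  have e1 : lift (1 : T ⟶ G) z = lift 1 z' := by
    apply D.hhom.2.1.hom_ext
    · rw [lift_fst, lift_fst]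
    · rw [mu_pt, mu_pt, e]
  have := congrArg (fun m => m ≫ snd G Z) e1
  simpa using this

theorem Phi_pt {T : Over S} (g : T ⟶ G) (x : T ⟶ Xh) :
    (lift g x ≫ Φ) ≫ σ = lift (g * (toUnit T ≫ h) * g⁻¹) (lift g (x ≫ incl) ≫ a.act) := by
  have e0 : lift g x ≫ toUnit (G ⊗ Xh) = toUnit T := toUnit_unique _ _
  rw [Category.assoc, D.hΦ, comp_lift, comp_mul, comp_mul, comp_inv, lift_fst,
    ← Category.assoc (lift g x) (toUnit (G ⊗ Xh)) h, e0, comp_lift_assoc, lift_fst, lift_snd_assoc]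

theorem act_pt {T : Over S} (k : T ⟶ G) (s : T ⟶ SΨ) :
    (lift k s ≫ aS.act) ≫ σ =
      lift (k * (s ≫ σ ≫ fst G X) * k⁻¹) (lift k (s ≫ σ ≫ snd G X) ≫ a.act) := by
  rw [Category.assoc, D.hσ, comp_lift, comp_mul, comp_mul, comp_inv, lift_fst, lift_snd_assoc,
    comp_lift_assoc, lift_fst, lift_snd_assoc]

theorem act_pt' {T : Over S} (k : T ⟶ G) (s : T ⟶ SΨ) (g : T ⟶ G) (x : T ⟶ X)
    (hs : s ≫ σ = lift g x) :
    (lift k s ≫ aS.act) ≫ σ = lift (k * g * k⁻¹) (lift k x ≫ a.act) := by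
  rw [D.act_pt, ← Category.assoc s σ (fst G X), ← Category.assoc s σ (snd G X), hs, lift_fst,
    lift_snd]

theorem incl_act {T : Over S} (z : T ⟶ Z) (x : T ⟶ Xh) :
    (lift z x ≫ aXh.act) ≫ incl = lift (z ≫ i) (x ≫ incl) ≫ a.act := by
  have e : aXh.act ≫ incl = (Z ◁ incl) ≫ (a.restrict i).act := D.hincl
  rw [Category.assoc, e, lift_whiskerLeft_assoc, AlgGrp.Action.lift_restrict_act]

theorem twist_Phi {T : Over S} (z : T ⟶ Z) (g : T ⟶ G) (x : T ⟶ Xh) :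
    (lift (g * (z ≫ i)⁻¹) (lift z x ≫ aXh.act) ≫ Φ) ≫ σ = (lift g x ≫ Φ) ≫ σ := by
  rw [D.Phi_pt, D.Phi_pt, D.incl_act, ← AlgGrp.Action.lift_mul_act, inv_mul_cancel_right,
    grp1 _ _ _ (D.central z)]

theorem equivariant :
    AlgGrp.Action.IsEquivariant ((NonAbH1.trivialAction G).prod (AlgGrp.Action.trivial G Xh))
      aS Φ := by
  haveI := D.mσ
  change ((NonAbH1.trivialAction G).prod (AlgGrp.Action.trivial G Xh)).act ≫ Φ = (G ◁ Φ) ≫ aS.act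
  rw [← cancel_mono σ]
  apply AlgGrp.Action.hom_ext_lift₂
  intro T k p
  obtain ⟨g, x, rfl⟩ := decomp p
  have e1 : lift k (lift g x) ≫
      ((NonAbH1.trivialAction G).prod (AlgGrp.Action.trivial G Xh)).act = lift (k * g) x := by
    rw [AlgGrp.Action.lift_prod_act, AlgGrp.Action.lift_trivial_act]
    congr 1
  have e2 : lift k (lift g x) ≫ (G ◁ Φ) = lift k (lift g x ≫ Φ) := lift_whiskerLeft _ _ _
  have lhs : lift k (lift g x) ≫
      (((NonAbH1.trivialAction G).prod (AlgGrp.Action.trivial G Xh)).act ≫ Φ) ≫ σ =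
      lift ((k * g) * (toUnit T ≫ h) * (k * g)⁻¹) (lift (k * g) (x ≫ incl) ≫ a.act) := by
    rw [← Category.assoc, ← Category.assoc, e1, D.Phi_pt]
  have rhs : lift k (lift g x) ≫ ((G ◁ Φ) ≫ aS.act) ≫ σ =
      lift (k * (g * (toUnit T ≫ h) * g⁻¹) * k⁻¹)
        (lift k (lift g (x ≫ incl) ≫ a.act) ≫ a.act) := by
    rw [← Category.assoc, ← Category.assoc, e2, D.act_pt' k (lift g x ≫ Φ) _ _ (D.Phi_pt g x)]
  rw [lhs, rhs, grp2, AlgGrp.Action.lift_mul_act]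

theorem cart : IsPullback (ChGrp.twist i aXh).act (snd Z (G ⊗ Xh)) Φ Φ := by
  haveI := D.mσ
  haveI := D.mincl
  refine isPullback_of_points _ _ _ _ ?_ ?_ ?_
  · rw [← cancel_mono σ]
    apply AlgGrp.Action.hom_ext_lift₂
    intro T z p
    obtain ⟨g, x, rfl⟩ := decomp p
    have l : lift z (lift g x) ≫ ((ChGrp.twist i aXh).act ≫ Φ) ≫ σ = (lift g x ≫ Φ) ≫ σ := by
      rw [← Category.assoc, ← Category.assoc, ChGrp.lift_twist_act, D.twist_Phi]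
    have r : lift z (lift g x) ≫ (snd Z (G ⊗ Xh) ≫ Φ) ≫ σ = (lift g x ≫ Φ) ≫ σ := by
      rw [← Category.assoc, ← Category.assoc, lift_snd]
    rw [l, r]
  · intro T a' b' hab
    obtain ⟨g', x', rfl⟩ := decomp a'
    obtain ⟨g, x, rfl⟩ := decomp b'
    have e' : (lift g' x' ≫ Φ) ≫ σ = (lift g x ≫ Φ) ≫ σ := congrArg (fun m => m ≫ σ) hab
    rw [D.Phi_pt, D.Phi_pt] at e'
    have E1 := congrArg (fun m => m ≫ fst G X) e'
    have E2 := congrArg (fun m => m ≫ snd G X) e'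
    simp only [lift_fst, lift_snd] at E1 E2
    obtain ⟨z, hz⟩ := D.exists_of_conj_eq g' g E1
    refine ⟨lift z (lift g x), ?_, lift_snd _ _⟩
    rw [ChGrp.lift_twist_act]
    have hg' : g * (z ≫ i)⁻¹ = g' := (grp4 hz).symm
    have hx' : lift z x ≫ aXh.act = x' := by
      rw [← cancel_mono incl, D.incl_act]
      apply act_cancel a g'
      rw [← AlgGrp.Action.lift_mul_act, ← hz]
      exact E2.symm
    rw [hg', hx']
  · intro T s t h1 h2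
    obtain ⟨z, p, rfl⟩ := decomp s
    obtain ⟨z', p', rfl⟩ := decomp t
    rw [lift_snd, lift_snd] at h2
    subst h2
    obtain ⟨g, x, rfl⟩ := decomp p
    rw [ChGrp.lift_twist_act, ChGrp.lift_twist_act] at h1
    have E := congrArg (fun m => m ≫ fst G Xh) h1
    simp only [lift_fst] at E
    have hzz : z = z' := D.z_unique z z' (inv_injective (mul_left_cancel E))
    rw [hzz]

theorem loc :
    NonAbH1.IsLocallyTrivialFor Scheme.fppfPrecoverage (Over.mk Φ.left : Over SΨ.left) := by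
  haveI := D.mσ
  obtain ⟨⟨y, hy⟩, hfix⟩ := (D.hSΨ SΨ (σ ≫ fst G X) (σ ≫ snd G X)).1
    ⟨𝟙 _, by rw [Category.id_comp, lift_comp_fst_snd]⟩
  obtain ⟨R₀, hR₀, hs⟩ := D.hhom.2.2
  obtain ⟨J, V, gc, rfl⟩ := R₀.exists_eq_ofArrows
  choose s hs' using fun j => hs (gc j) (Presieve.ofArrows.mk j)
  refine ⟨Presieve.ofArrows (fun j => pullback y.left (gc j))
    (fun j => pullback.fst y.left (gc j)), ?_, ?_⟩
  · exact Precoverage.mem_coverings_of_isPullback (J := Scheme.fppfPrecoverage) gc hR₀ y.left _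
      (fun j => pullback.snd y.left (gc j)) (fun j => IsPullback.of_hasPullback _ _)
  · rintro S' f ⟨j⟩
    have hs'' : s j ≫ (aΨ.orbitMap o).left = gc j := hs' j
    let W : Over S := Over.mk (pullback.fst y.left (gc j) ≫ SΨ.hom)
    let q : W ⟶ SΨ := Over.homMk (pullback.fst y.left (gc j)) rfl
    have e1 : s j ≫ G.hom = gc j ≫ Ψ.hom := by
      rw [← hs'', Category.assoc, Over.w]
    have e2 : pullback.snd y.left (gc j) ≫ gc j = pullback.fst y.left (gc j) ≫ y.left :=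
      pullback.condition.symm
    have hk : (pullback.snd y.left (gc j) ≫ s j) ≫ G.hom =
        pullback.fst y.left (gc j) ≫ SΨ.hom := by
      rw [Category.assoc, e1, ← Category.assoc, e2, Category.assoc, Over.w y]
    let k : W ⟶ G := Over.homMk (pullback.snd y.left (gc j) ≫ s j) hk
    have hkq : k ≫ aΨ.orbitMap o = q ≫ y := by
      apply Over.OverMorphism.ext
      change (pullback.snd y.left (gc j) ≫ s j) ≫ (aΨ.orbitMap o).left =
        pullback.fst y.left (gc j) ≫ y.left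
      rw [Category.assoc, hs'', e2]
    have hg : q ≫ σ ≫ fst G X = k * (toUnit W ≫ h) * k⁻¹ := by
      rw [← hy, ← Category.assoc, ← hkq, D.psi_orb]
    have hx : lift (q ≫ σ ≫ fst G X) (q ≫ σ ≫ snd G X) ≫ a.act = q ≫ σ ≫ snd G X := by
      rw [← comp_lift_assoc]
      exact congrArg (fun m => q ≫ m) hfix
    rw [hg] at hx
    have hfixed : lift (toUnit W ≫ h) (lift k⁻¹ (q ≫ σ ≫ snd G X) ≫ a.act) ≫ a.act =
        lift k⁻¹ (q ≫ σ ≫ snd G X) ≫ a.act := by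
      rw [← AlgGrp.Action.lift_mul_act, grp3 k (toUnit W ≫ h), AlgGrp.Action.lift_mul_act, hx]
    obtain ⟨y', hy'⟩ := (D.hXh W _).2 hfixed
    refine ⟨(lift k y').left, ?_⟩
    change (lift k y').left ≫ Φ.left = pullback.fst y.left (gc j)
    have hsec : lift k y' ≫ Φ = q := by
      rw [← cancel_mono σ, D.Phi_pt, hy', ← AlgGrp.Action.lift_mul_act, mul_inv_cancel,
        AlgGrp.Action.lift_one_act, ← hg]
      have := lift_comp_fst_snd (q ≫ σ)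
      simp only [Category.assoc] at this
      exact this
    rw [← Over.comp_left, hsec]
    rfl

end Dat

/-- S19098. -/
theorem main {G X Z Ψ Xh SΨ : Over S} [GrpObj G] [GrpObj Z]
    (a : AlgGrp.Action G X) (h : 𝟙_ (Over S) ⟶ G)
    (i : Z ⟶ G) [IsMonHom i]
    (ψ : Ψ ⟶ G) [Mono ψ] (aΨ : AlgGrp.Action G Ψ)
    (hψ : aΨ.act ≫ ψ = fst G Ψ * (snd G Ψ ≫ ψ) * (fst G Ψ)⁻¹)
    (o : 𝟙_ (Over S) ⟶ Ψ) (ho : o ≫ ψ = h)
    (hhom : ChGrp.IsHomog Scheme.fppfPrecoverage i aΨ o)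
    (incl : Xh ⟶ X) [Mono incl]
    (hXh : ∀ (T : Over S) (x : T ⟶ X), (∃ y : T ⟶ Xh, y ≫ incl = x) ↔ lift (toUnit T ≫ h) x ≫ a.act = x)
    (aXh : AlgGrp.Action Z Xh) (hincl : AlgGrp.Action.IsEquivariant aXh (a.restrict i) incl)
    (σ : SΨ ⟶ G ⊗ X) [Mono σ]
    (hSΨ : ∀ (T : Over S) (g : T ⟶ G) (x : T ⟶ X),
      (∃ q : T ⟶ SΨ, q ≫ σ = lift g x) ↔ ((∃ y : T ⟶ Ψ, y ≫ ψ = g) ∧ lift g x ≫ a.act = x))
    (aS : AlgGrp.Action G SΨ)
    (hσ : aS.act ≫ σ = lift (fst G SΨ * (snd G SΨ ≫ σ ≫ fst G X) * (fst G SΨ)⁻¹)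
      (lift (fst G SΨ) (snd G SΨ ≫ σ ≫ snd G X) ≫ a.act))
    (Φ : G ⊗ Xh ⟶ SΨ)
    (hΦ : Φ ≫ σ = lift (fst G Xh * (toUnit (G ⊗ Xh) ≫ h) * (fst G Xh)⁻¹)
      (lift (fst G Xh) (snd G Xh ≫ incl) ≫ a.act)) :
    ChGrp.IsBalProd Scheme.fppfPrecoverage i aXh aS Φ := by
  have D : Dat a h i ψ aΨ o incl aXh σ aS Φ :=
    ⟨inferInstance, hψ, ho, hhom, inferInstance, hXh, hincl, inferInstance, hSΨ, hσ, hΦ⟩
  exact ⟨D.equivariant, D.cart, D.loc⟩

end Groth.Agent.Helper2.BalStab
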