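import Mathlib
import Groth.Prelude.Def_ChGrp
import Groth.Prelude.Def_AlgSt5
import Groth.Agent.Lib.Helper4.GrpKer2
import Groth.Agent.Lib.Helper2.Sch.LocTrivLift
import Groth.Agent.Lib.Helper2.ChGrp.BalStab
import Groth.Agent.S0083
import Groth.Agent.S18858

/-!
# Fixed points of a balanced product under a central element (S19099) (helper2)
-/

set_option backward.isDefEq.respectTransparency.types false
set_option synthInstance.maxHeartbeats 400000
set_option maxHeartbeats 4000000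
set_option autoImplicit false
set_option linter.unusedSectionVars false
set_option linter.style.haveILetI false
set_option linter.unusedVariables false
set_option linter.unusedSimpArgs false
set_option linter.unnecessarySimpa false
universe u

namespace Groth.Agent.Helper2.BalFix

open CategoryTheory CategoryTheory.Limits AlgebraicGeometry
open MonoidalCategory CartesianMonoidalCategory MonObj GrpObj
open Groth.Agent.Lib.Helper4.GrpKer2 Groth.Agent.Helper2.LocTrivLift Groth.Agent.Helper2.BalStab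

variable {S : Scheme.{u}}

theorem act_inv {G X : Over S} [GrpObj G] (a : AlgGrp.Action G X) {T : Over S} (g : T ⟶ G)
    (x : T ⟶ X) (hx : lift g x ≫ a.act = x) : lift g⁻¹ x ≫ a.act = x := by
  have e : lift g⁻¹ (lift g x ≫ a.act) ≫ a.act = x := by
    rw [← AlgGrp.Action.lift_mul_act, inv_mul_cancel, AlgGrp.Action.lift_one_act]
  rw [hx] at e
  exact e

/-- Gluing local factorizations through a monomorphism. -/
theorem glue_loc {E B T V W : Over S} (π : E ⟶ B)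
    (hloc : NonAbH1.IsLocallyTrivialFor Scheme.fppfPrecoverage (Over.mk π.left : Over B.left))
    (x : T ⟶ B) (mV : V ⟶ W) [Mono mV] (target : T ⟶ W)
    (hex : ∀ ⦃T' : Over S⦄ (f : T' ⟶ T) (e₀ : T' ⟶ E), e₀ ≫ π = f ≫ x →
      ∃ v : T' ⟶ V, v ≫ mV = f ≫ target) :
    ∃ v : T ⟶ V, v ≫ mV = target := by
  have h1 : (liftSieve π).pullback x ∈ AlgSp.J S T :=
    (AlgSp.J S).pullback_stable x (liftSieve_mem π hloc)
  have hex' : ∀ ⦃T' : Over S⦄ (f : T' ⟶ T), ((liftSieve π).pullback x) f →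
      ∃ v : T' ⟶ V, v ≫ mV = f ≫ target := by
    rintro T' f ⟨e₀, he₀⟩
    exact hex f e₀ he₀
  obtain ⟨v, hv⟩ := Groth.Agent.Helper2.QuotEff.exists_glue_sieve _ h1
    (fun T' f hf => (hex' f hf).choose) (by
      intro T' T'' f g hf
      rw [← cancel_mono mV, Category.assoc, (hex' f hf).choose_spec,
        (hex' (g ≫ f) (((liftSieve π).pullback x).downward_closed hf g)).choose_spec, Category.assoc])
  refine ⟨v, ?_⟩
  refine Groth.Agent.Helper2.QuotEff.hom_ext_sieve _ h1 _ _ ?_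
  intro T' f hf
  rw [← Category.assoc, hv f hf, (hex' f hf).choose_spec]

/-- The hypotheses of S19099. -/
structure Dat {Q G X Xh Y Y' : Over S} [GrpObj Q] [GrpObj G]
    (i : G ⟶ Q) [IsMonHom i] (h : 𝟙_ (Over S) ⟶ G) (a : AlgGrp.Action G X) (incl : Xh ⟶ X)
    (aXh : AlgGrp.Action G Xh) (aY : AlgGrp.Action Q Y) (j : Q ⊗ X ⟶ Y)
    (aY' : AlgGrp.Action Q Y') (j' : Q ⊗ Xh ⟶ Y') (m : Y' ⟶ Y) : Prop where
  mi : Mono i
  hcent : ∀ (T : Over S) (q : T ⟶ Q), q * (toUnit T ≫ h ≫ i) = (toUnit T ≫ h ≫ i) * q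
  mincl : Mono incl
  hXh : ∀ (T : Over S) (x : T ⟶ X),
    (∃ y : T ⟶ Xh, y ≫ incl = x) ↔ lift (toUnit T ≫ h) x ≫ a.act = x
  hincl : AlgGrp.Action.IsEquivariant aXh a incl
  hY : ChGrp.IsBalProd Scheme.fppfPrecoverage i a aY j
  hY' : ChGrp.IsBalProd Scheme.fppfPrecoverage i aXh aY' j'
  hm : j' ≫ m = (Q ◁ incl) ≫ j

namespace Dat

variable {Q G X Xh Y Y' : Over S} [GrpObj Q] [GrpObj G]
  {i : G ⟶ Q} [IsMonHom i] {h : 𝟙_ (Over S) ⟶ G} {a : AlgGrp.Action G X} {incl : Xh ⟶ X}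
  {aXh : AlgGrp.Action G Xh} {aY : AlgGrp.Action Q Y} {j : Q ⊗ X ⟶ Y}
  {aY' : AlgGrp.Action Q Y'} {j' : Q ⊗ Xh ⟶ Y'} {m : Y' ⟶ Y}
  (D : Dat i h a incl aXh aY j aY' j' m)

include D

theorem monoW : Mono (Q ◁ incl) := by
  haveI := D.mincl
  constructor
  intro T s t hst
  apply CartesianMonoidalCategory.hom_ext
  · have := congrArg (fun k => k ≫ fst Q X) hst
    simpa only [Category.assoc, whiskerLeft_fst] using this
  · have := congrArg (fun k => k ≫ snd Q X) hst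
    simp only [Category.assoc, whiskerLeft_snd] at this
    rw [← Category.assoc, ← Category.assoc] at this
    exact (cancel_mono incl).1 this

theorem tw {T : Over S} (g : T ⟶ G) (p : T ⟶ Q ⊗ Xh) :
    (lift g p ≫ (ChGrp.twist i aXh).act) ≫ (Q ◁ incl) =
      lift g (p ≫ (Q ◁ incl)) ≫ (ChGrp.twist i a).act := by
  obtain ⟨q, x, rfl⟩ := decomp p
  have e : aXh.act ≫ incl = (G ◁ incl) ≫ a.act := D.hincl
  rw [ChGrp.lift_twist_act, lift_whiskerLeft, lift_whiskerLeft, ChGrp.lift_twist_act,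
    Category.assoc, e, lift_whiskerLeft_assoc]

theorem exists_g {T : Over S} (u v : T ⟶ Q ⊗ X) (e : u ≫ j = v ≫ j) :
    ∃ g : T ⟶ G, lift g v ≫ (ChGrp.twist i a).act = u := by
  refine ⟨D.hY.2.1.lift u v e ≫ fst G (Q ⊗ X), ?_⟩
  have e2 : D.hY.2.1.lift u v e = lift (D.hY.2.1.lift u v e ≫ fst G (Q ⊗ X)) v := by
    apply CartesianMonoidalCategory.hom_ext
    · rw [lift_fst]
    · rw [lift_snd, D.hY.2.1.lift_snd]
  have e3 := D.hY.2.1.lift_fst u v e
  rw [e2] at e3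
  exact e3

theorem loc_eq {T : Over S} (p₁ p₂ : T ⟶ Q ⊗ Xh)
    (e : (p₁ ≫ (Q ◁ incl)) ≫ j = (p₂ ≫ (Q ◁ incl)) ≫ j) : p₁ ≫ j' = p₂ ≫ j' := by
  haveI := D.monoW
  obtain ⟨g, hg⟩ := D.exists_g (p₁ ≫ (Q ◁ incl)) (p₂ ≫ (Q ◁ incl)) e
  have e1 : lift g p₂ ≫ (ChGrp.twist i aXh).act = p₁ := by
    rw [← cancel_mono (Q ◁ incl), D.tw, hg]
  rw [← e1, Category.assoc, D.hY'.2.1.w, lift_snd_assoc]

theorem mono_m : Mono m := by
  constructor
  intro T y₁ y₂ h12
  apply hom_ext_of_isLocallyTrivialFor j' D.hY'.2.2 y₁ y₁ y₂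
  intro T' f p₁ hp₁
  apply hom_ext_of_isLocallyTrivialFor j' D.hY'.2.2 (f ≫ y₂) (f ≫ y₁) (f ≫ y₂)
  intro T'' f' p₂ hp₂
  have e1 : f' ≫ f ≫ y₁ = (f' ≫ p₁) ≫ j' := by rw [Category.assoc, hp₁]
  have hm' : (Q ◁ incl) ≫ j = j' ≫ m := D.hm.symm
  have l : ((f' ≫ p₁) ≫ (Q ◁ incl)) ≫ j = f' ≫ f ≫ y₁ ≫ m := by
    rw [Category.assoc (f' ≫ p₁), hm', ← Category.assoc (f' ≫ p₁), ← e1]
    simp only [Category.assoc]
  have r : (p₂ ≫ (Q ◁ incl)) ≫ j = f' ≫ f ≫ y₂ ≫ m := by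
    rw [Category.assoc, hm', ← Category.assoc, hp₂]
    simp only [Category.assoc]
  rw [e1, ← hp₂]
  apply D.loc_eq
  rw [l, r, h12]

theorem star : IsPullback (Q ◁ incl) j' j m := by
  haveI := D.monoW
  haveI := D.mono_m
  refine isPullback_of_points _ _ _ _ D.hm.symm ?_ ?_
  · intro T p y' hpy
    obtain ⟨t, ht⟩ := glue_loc j' D.hY'.2.2 y' (Q ◁ incl) p (by
      intro T' f p₀ hp₀
      have l : (f ≫ p) ≫ j = f ≫ y' ≫ m := by rw [Category.assoc, hpy]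
      have r : (p₀ ≫ (Q ◁ incl)) ≫ j = f ≫ y' ≫ m := by
        rw [Category.assoc, ← D.hm, ← Category.assoc, hp₀, Category.assoc]
      obtain ⟨g, hg⟩ := D.exists_g (f ≫ p) (p₀ ≫ (Q ◁ incl)) (l.trans r.symm)
      exact ⟨lift g p₀ ≫ (ChGrp.twist i aXh).act, by rw [D.tw, hg]⟩)
    refine ⟨t, ht, ?_⟩
    rw [← cancel_mono m, Category.assoc, D.hm, ← Category.assoc, ht, hpy]
  · intro T s t h1 h2
    exact (cancel_mono (Q ◁ incl)).1 h1

theorem equiv_pt {T : Over S} (k q : T ⟶ Q) (x : T ⟶ X) :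
    lift k (lift q x ≫ j) ≫ aY.act = lift (k * q) x ≫ j := by
  have e : ((NonAbH1.trivialAction Q).prod (AlgGrp.Action.trivial Q X)).act ≫ j =
      (Q ◁ j) ≫ aY.act := D.hY.1
  have e1 : lift k (lift q x) ≫
      ((NonAbH1.trivialAction Q).prod (AlgGrp.Action.trivial Q X)).act = lift (k * q) x := by
    rw [AlgGrp.Action.lift_prod_act, AlgGrp.Action.lift_trivial_act]
    congr 1
  rw [← e1, Category.assoc, e, lift_whiskerLeft_assoc]

theorem fix_pt {T : Over S} (q : T ⟶ Q) (x : T ⟶ X)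
    (hx : lift (toUnit T ≫ h) x ≫ a.act = x) :
    lift (q * ((toUnit T ≫ h) ≫ i)) x ≫ j = lift q x ≫ j := by
  have w := D.hY.2.1.w
  have e := congrArg
    (fun k => lift (toUnit T ≫ h) (lift (q * ((toUnit T ≫ h) ≫ i)) x) ≫ k) w
  have e1 : lift (toUnit T ≫ h) (lift (q * ((toUnit T ≫ h) ≫ i)) x) ≫
      (ChGrp.twist i a).act ≫ j = lift q x ≫ j := by
    rw [← Category.assoc, ChGrp.lift_twist_act, mul_inv_cancel_right, hx]
  have e2 : lift (toUnit T ≫ h) (lift (q * ((toUnit T ≫ h) ≫ i)) x) ≫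
      snd G (Q ⊗ X) ≫ j = lift (q * ((toUnit T ≫ h) ≫ i)) x ≫ j := by
    rw [lift_snd_assoc]
  exact e2.symm.trans (e.symm.trans e1)

theorem fixed_of_factors {T : Over S} (y' : T ⟶ Y') :
    lift (toUnit T ≫ h ≫ i) (y' ≫ m) ≫ aY.act = y' ≫ m := by
  apply hom_ext_of_isLocallyTrivialFor j' D.hY'.2.2 y'
  intro T' f p₀ hp₀
  obtain ⟨q, x₀, rfl⟩ := decomp p₀
  have hx : lift (toUnit T' ≫ h) (x₀ ≫ incl) ≫ a.act = x₀ ≫ incl :=
    (D.hXh T' _).1 ⟨x₀, rfl⟩
  have e0 : f ≫ y' ≫ m = lift q (x₀ ≫ incl) ≫ j := by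
    rw [← Category.assoc, ← hp₀, Category.assoc, D.hm, lift_whiskerLeft_assoc]
  have e1 : f ≫ toUnit T ≫ h ≫ i = toUnit T' ≫ h ≫ i := by
    rw [← Category.assoc, toUnit_unique (f ≫ toUnit T) (toUnit T')]
  rw [comp_lift_assoc, e1, e0, D.equiv_pt, ← D.hcent T' q]
  have e2 : toUnit T' ≫ h ≫ i = (toUnit T' ≫ h) ≫ i := (Category.assoc _ _ _).symm
  rw [e2]
  exact D.fix_pt q _ hx

theorem factors_of_fixed {T : Over S} (y : T ⟶ Y)
    (hy : lift (toUnit T ≫ h ≫ i) y ≫ aY.act = y) : ∃ y' : T ⟶ Y', y' ≫ m = y := by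
  haveI := D.mono_m
  haveI := D.mi
  refine glue_loc j D.hY.2.2 y m y ?_
  intro T' f p hp
  obtain ⟨q, x, rfl⟩ := decomp p
  have e1 : f ≫ toUnit T ≫ h ≫ i = toUnit T' ≫ h ≫ i := by
    rw [← Category.assoc, toUnit_unique (f ≫ toUnit T) (toUnit T')]
  have hy' : lift (toUnit T' ≫ h ≫ i) (lift q x ≫ j) ≫ aY.act = lift q x ≫ j := by
    have := congrArg (fun k => f ≫ k) hy
    simp only [comp_lift_assoc] at this
    rw [e1, ← hp] at this
    exact this
  rw [D.equiv_pt, ← D.hcent T' q] at hy'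
  obtain ⟨g, hg⟩ := D.exists_g _ _ hy'
  rw [ChGrp.lift_twist_act] at hg
  have E1 := congrArg (fun k => k ≫ fst Q X) hg
  have E2 := congrArg (fun k => k ≫ snd Q X) hg
  simp only [lift_fst, lift_snd] at E1 E2
  have E3 : (g ≫ i)⁻¹ = toUnit T' ≫ h ≫ i := mul_left_cancel E1
  have E4 : (g * (toUnit T' ≫ h)) ≫ i = (1 : T' ⟶ G) ≫ i := by
    rw [MonObj.mul_comp, MonObj.one_comp, Category.assoc, ← E3, mul_inv_cancel]
  have E5 : g * (toUnit T' ≫ h) = 1 := (cancel_mono i).1 E4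
  have E6 : toUnit T' ≫ h = g⁻¹ := eq_inv_of_mul_eq_one_right E5
  have hx : lift (toUnit T' ≫ h) x ≫ a.act = x := by
    rw [E6]
    exact act_inv a g x E2
  obtain ⟨x₀, hx₀⟩ := (D.hXh T' x).2 hx
  refine ⟨lift q x₀ ≫ j', ?_⟩
  rw [Category.assoc, D.hm, lift_whiskerLeft_assoc, hx₀, hp]

theorem closedImm (hci : IsClosedImmersion incl.left) : IsClosedImmersion m.left := by
  haveI := hci
  have hsqL : IsPullback (Q ◁ incl).left j'.left j.left m.left := isPullback_left D.star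
  have hw : IsPullback (Q ◁ incl).left (snd Q Xh).left (snd Q X).left incl.left :=
    isPullback_left (AlgSt.isPullback_whiskerLeft (G := Q) incl)
  haveI hQi : IsClosedImmersion (Q ◁ incl).left :=
    MorphismProperty.of_isPullback (P := @IsClosedImmersion) hw.flip hci
  obtain ⟨R₀, hR₀, hs⟩ := D.hY.2.2
  haveI : MorphismProperty.DescendsAlong (@IsClosedImmersion : MorphismProperty Scheme.{u})
      (@Surjective ⊓ @Flat ⊓ @QuasiCompact : MorphismProperty Scheme.{u}) :=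
    Groth.Agent.S0083.result
  refine Groth.Agent.S18858.descends_fpqc_family @IsClosedImmersion m.left R₀
    (Scheme.fppfPrecoverage_le_fpqcPrecoverage _ hR₀) ?_
  intro V g hg
  obtain ⟨s, hs'⟩ := hs g hg
  have hs'' : s ≫ j.left = g := hs'
  have h1 : IsPullback (pullback.fst (Q ◁ incl).left s) (pullback.snd (Q ◁ incl).left s)
      (Q ◁ incl).left s := IsPullback.of_hasPullback _ _
  have h2 : IsPullback (pullback.fst (Q ◁ incl).left s ≫ j'.left)
      (pullback.snd (Q ◁ incl).left s) m.left (s ≫ j.left) := h1.paste_horiz hsqL.flip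
  rw [hs''] at h2
  have e : h2.isoPullback.hom ≫ pullback.snd m.left g = pullback.snd (Q ◁ incl).left s :=
    h2.isoPullback_hom_snd
  have h3 : IsClosedImmersion (h2.isoPullback.hom ≫ pullback.snd m.left g) := by
    rw [e]; infer_instance
  exact (MorphismProperty.cancel_left_of_respectsIso @IsClosedImmersion
    h2.isoPullback.hom _).1 h3

end Dat

/-- S19099. -/
theorem main {Q G X Xh Y Y' : Over S} [GrpObj Q] [GrpObj G]
    (i : G ⟶ Q) [IsMonHom i] [Mono i]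
    (h : 𝟙_ (Over S) ⟶ G)
    (hcent : ∀ (T : Over S) (q : T ⟶ Q), q * (toUnit T ≫ h ≫ i) = (toUnit T ≫ h ≫ i) * q)
    (a : AlgGrp.Action G X)
    (incl : Xh ⟶ X) [Mono incl]
    (hXh : ∀ (T : Over S) (x : T ⟶ X), (∃ y : T ⟶ Xh, y ≫ incl = x) ↔ lift (toUnit T ≫ h) x ≫ a.act = x)
    (aXh : AlgGrp.Action G Xh) (hincl : AlgGrp.Action.IsEquivariant aXh a incl)
    (aY : AlgGrp.Action Q Y) (j : Q ⊗ X ⟶ Y) (hY : ChGrp.IsBalProd Scheme.fppfPrecoverage i a aY j)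
    (aY' : AlgGrp.Action Q Y') (j' : Q ⊗ Xh ⟶ Y') (hY' : ChGrp.IsBalProd Scheme.fppfPrecoverage i aXh aY' j')
    (m : Y' ⟶ Y) (hm : j' ≫ m = (Q ◁ incl) ≫ j) :
    Mono m ∧
      (∀ (T : Over S) (y : T ⟶ Y), (∃ y' : T ⟶ Y', y' ≫ m = y) ↔ lift (toUnit T ≫ h ≫ i) y ≫ aY.act = y) ∧
      (IsClosedImmersion incl.left → IsClosedImmersion m.left) := by
  have D : Dat i h a incl aXh aY j aY' j' m :=
    ⟨inferInstance, hcent, inferInstance, hXh, hincl, hY, hY', hm⟩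
  refine ⟨D.mono_m, fun T y => ⟨?_, D.factors_of_fixed y⟩, D.closedImm⟩
  rintro ⟨y', rfl⟩
  exact D.fixed_of_factors y'

end Groth.Agent.Helper2.BalFix
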