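import Mathlib
import Groth.Prelude.Def_ChGrp
import Groth.Agent.Lib.Helper4.GrpKer2
import Groth.Agent.Lib.Helper2.ChGrp.BalStab

/-!
# Closed invariant subschemes of a balanced product are balanced products (S19681) (helper2)
-/

set_option backward.isDefEq.respectTransparency.types false
set_option synthInstance.maxHeartbeats 400000
set_option maxHeartbeats 4000000
set_option autoImplicit false
set_option linter.unusedSectionVars false
set_option linter.style.haveILetI false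
set_option linter.unusedVariables false
set_option linter.unusedSimpArgs false
set_option linter.unnecessarySimpa false
universe u

namespace Groth.Agent.Helper2.BalSub

open CategoryTheory CategoryTheory.Limits AlgebraicGeometry
open MonoidalCategory CartesianMonoidalCategory MonObj GrpObj
open Groth.Agent.Lib.Helper4.GrpKer2 Groth.Agent.Helper2.BalStab

noncomputable section

variable {S : Scheme.{u}}

section SubAct
variable {G X X' : Over S} [GrpObj G]

/-- Restriction of an action to an invariant subobject. -/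
def subAct (a : AlgGrp.Action G X) (m : X' ⟶ X) [Mono m] (act' : G ⊗ X' ⟶ X')
    (h : act' ≫ m = (G ◁ m) ≫ a.act) : AlgGrp.Action G X' where
  act := act'
  one_act := by
    apply AlgGrp.Action.hom_ext_lift₂
    intro T u x
    have hu : u ≫ η[G] = 1 := by rw [Hom.one_def, toUnit_unique (toUnit T) u]
    rw [lift_whiskerRight_assoc, hu, leftUnitor_hom, lift_snd, ← cancel_mono m, Category.assoc, h,
      lift_whiskerLeft_assoc, AlgGrp.Action.lift_one_act]
  mul_act := by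
    have pt : ∀ {T : Over S} (g : T ⟶ G) (x : T ⟶ X'),
        (lift g x ≫ act') ≫ m = lift g (x ≫ m) ≫ a.act := by
      intro T g x
      rw [Category.assoc, h, lift_whiskerLeft_assoc]
    apply AlgGrp.Action.hom_ext_lift₃
    intro T g g' x
    rw [lift_whiskerRight_assoc, ← Hom.mul_def, lift_lift_associator_hom_assoc,
      lift_whiskerLeft_assoc, ← cancel_mono m, pt, pt, pt, AlgGrp.Action.lift_mul_act]

end SubAct

variable {G H Z Y Y' : Over S} [GrpObj G] [GrpObj H]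

/-- `z ↦ j(1, z)` -/
def e0 (j : G ⊗ Z ⟶ Y) : Z ⟶ Y := lift (1 : Z ⟶ G) (𝟙 Z) ≫ j

theorem e0_pt (j : G ⊗ Z ⟶ Y) {T : Over S} (z : T ⟶ Z) :
    z ≫ e0 j = lift (1 : T ⟶ G) z ≫ j := by
  rw [e0, ← Category.assoc, comp_lift, MonObj.comp_one, Category.comp_id]

abbrev Z' (j : G ⊗ Z ⟶ Y) (c : Y' ⟶ Y) : Over S := pullback (e0 j) c
abbrev c' (j : G ⊗ Z ⟶ Y) (c : Y' ⟶ Y) : Z' j c ⟶ Z := pullback.fst (e0 j) c
abbrev y' (j : G ⊗ Z ⟶ Y) (c : Y' ⟶ Y) : Z' j c ⟶ Y' := pullback.snd (e0 j) c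

theorem y'_c (j : G ⊗ Z ⟶ Y) (c : Y' ⟶ Y) {T : Over S} (z' : T ⟶ Z' j c) :
    (z' ≫ y' j c) ≫ c = lift (1 : T ⟶ G) (z' ≫ c' j c) ≫ j := by
  have cond : c' j c ≫ e0 j = y' j c ≫ c := pullback.condition
  rw [Category.assoc, ← cond, ← Category.assoc, e0_pt]

/-- The hypotheses. -/
structure Dat (i : H ⟶ G) [IsMonHom i] (aZ : AlgGrp.Action H Z) (aY : AlgGrp.Action G Y)
    (j : G ⊗ Z ⟶ Y) (c : Y' ⟶ Y) (aY' : AlgGrp.Action G Y') : Prop where
  hY : ChGrp.IsBalProd Scheme.fppfPrecoverage i aZ aY j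
  hc : AlgGrp.Action.IsEquivariant aY' aY c

namespace Dat

variable {i : H ⟶ G} [IsMonHom i] {aZ : AlgGrp.Action H Z} {aY : AlgGrp.Action G Y}
  {j : G ⊗ Z ⟶ Y} {c : Y' ⟶ Y} [Mono c] {aY' : AlgGrp.Action G Y'} (D : Dat i aZ aY j c aY')

include D

theorem equiv_pt {T : Over S} (k q : T ⟶ G) (x : T ⟶ Z) :
    lift k (lift q x ≫ j) ≫ aY.act = lift (k * q) x ≫ j := by
  have e : ((NonAbH1.trivialAction G).prod (AlgGrp.Action.trivial G Z)).act ≫ j =
      (G ◁ j) ≫ aY.act := D.hY.1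
  have e1 : lift k (lift q x) ≫
      ((NonAbH1.trivialAction G).prod (AlgGrp.Action.trivial G Z)).act = lift (k * q) x := by
    rw [AlgGrp.Action.lift_prod_act, AlgGrp.Action.lift_trivial_act]
    congr 1
  rw [← e1, Category.assoc, e, lift_whiskerLeft_assoc]

theorem c_act {T : Over S} (g : T ⟶ G) (w : T ⟶ Y') :
    (lift g w ≫ aY'.act) ≫ c = lift g (w ≫ c) ≫ aY.act := by
  have e : aY'.act ≫ c = (G ◁ c) ≫ aY.act := D.hc
  rw [Category.assoc, e, lift_whiskerLeft_assoc]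

theorem inv_pt {T : Over S} (h : T ⟶ H) (z : T ⟶ Z) :
    lift (1 : T ⟶ G) (lift h z ≫ aZ.act) ≫ j = lift (h ≫ i) z ≫ j := by
  have w := D.hY.2.1.w
  have e := congrArg (fun k => lift h (lift (h ≫ i) z) ≫ k) w
  have e1 : lift h (lift (h ≫ i) z) ≫ (ChGrp.twist i aZ).act ≫ j =
      lift (1 : T ⟶ G) (lift h z ≫ aZ.act) ≫ j := by
    rw [← Category.assoc, ChGrp.lift_twist_act, mul_inv_cancel]
  have e2 : lift h (lift (h ≫ i) z) ≫ snd H (G ⊗ Z) ≫ j = lift (h ≫ i) z ≫ j := by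
    rw [lift_snd_assoc]
  exact e1.symm.trans (e.trans e2)

theorem act_cond : ((H ◁ c' j c) ≫ aZ.act) ≫ e0 j =
    (lift (fst H (Z' j c) ≫ i) (snd H (Z' j c) ≫ y' j c) ≫ aY'.act) ≫ c := by
  apply AlgGrp.Action.hom_ext_lift₂
  intro T h z'
  have l : lift h z' ≫ ((H ◁ c' j c) ≫ aZ.act) ≫ e0 j = lift (h ≫ i) (z' ≫ c' j c) ≫ j := by
    rw [← Category.assoc, ← Category.assoc, lift_whiskerLeft, e0_pt, D.inv_pt]
  have r : lift h z' ≫ (lift (fst H (Z' j c) ≫ i) (snd H (Z' j c) ≫ y' j c) ≫ aY'.act) ≫ c =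
      lift (h ≫ i) (z' ≫ c' j c) ≫ j := by
    rw [← Category.assoc, ← Category.assoc, comp_lift, lift_fst_assoc, lift_snd_assoc, D.c_act,
      y'_c, D.equiv_pt, _root_.mul_one]
  rw [l, r]

/-- the restricted action map -/
def act' : H ⊗ Z' j c ⟶ Z' j c :=
  pullback.lift ((H ◁ c' j c) ≫ aZ.act)
    (lift (fst H (Z' j c) ≫ i) (snd H (Z' j c) ≫ y' j c) ≫ aY'.act) D.act_cond

theorem act'_fst : D.act' ≫ c' j c = (H ◁ c' j c) ≫ aZ.act := pullback.lift_fst _ _ _

/-- the restricted action -/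
def aZ' : AlgGrp.Action H (Z' j c) := subAct aZ (c' j c) D.act' D.act'_fst

theorem aZ'_eqv : AlgGrp.Action.IsEquivariant D.aZ' aZ (c' j c) := D.act'_fst

omit D in
variable (j c aY') in
/-- the structure map of the sub-balanced product -/
def j' : G ⊗ Z' j c ⟶ Y' := (G ◁ y' j c) ≫ aY'.act

omit D in
theorem j'_pt {T : Over S} (g : T ⟶ G) (z' : T ⟶ Z' j c) :
    lift g z' ≫ j' j c aY' = lift g (z' ≫ y' j c) ≫ aY'.act := by
  rw [j', lift_whiskerLeft_assoc]

theorem j'_c {T : Over S} (g : T ⟶ G) (z' : T ⟶ Z' j c) :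
    (lift g z' ≫ j' j c aY') ≫ c = lift g (z' ≫ c' j c) ≫ j := by
  rw [j'_pt, D.c_act, y'_c, D.equiv_pt, _root_.mul_one]

theorem hj' : j' j c aY' ≫ c = (G ◁ c' j c) ≫ j := by
  apply AlgGrp.Action.hom_ext_lift₂
  intro T g z'
  rw [← Category.assoc, D.j'_c, lift_whiskerLeft_assoc]

theorem pc {T : Over S} (p : T ⟶ G ⊗ Z' j c) :
    (p ≫ j' j c aY') ≫ c = (p ≫ (G ◁ c' j c)) ≫ j := by
  rw [Category.assoc, D.hj', Category.assoc]

omit D in
theorem monoW : Mono (G ◁ c' j c) := by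
  constructor
  intro T s t hst
  apply CartesianMonoidalCategory.hom_ext
  · have := congrArg (fun k => k ≫ fst G Z) hst
    simpa only [Category.assoc, whiskerLeft_fst] using this
  · have := congrArg (fun k => k ≫ snd G Z) hst
    simp only [Category.assoc, whiskerLeft_snd] at this
    rw [← Category.assoc, ← Category.assoc] at this
    exact (cancel_mono (c' j c)).1 this

theorem tw {T : Over S} (h : T ⟶ H) (p : T ⟶ G ⊗ Z' j c) :
    (lift h p ≫ (ChGrp.twist i D.aZ').act) ≫ (G ◁ c' j c) =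
      lift h (p ≫ (G ◁ c' j c)) ≫ (ChGrp.twist i aZ).act := by
  obtain ⟨q, x, rfl⟩ := decomp p
  have e : D.aZ'.act ≫ c' j c = (H ◁ c' j c) ≫ aZ.act := D.act'_fst
  rw [ChGrp.lift_twist_act, lift_whiskerLeft, lift_whiskerLeft, ChGrp.lift_twist_act,
    Category.assoc, e, lift_whiskerLeft_assoc]

theorem exists_g {T : Over S} (u v : T ⟶ G ⊗ Z) (e : u ≫ j = v ≫ j) :
    ∃ g : T ⟶ H, lift g v ≫ (ChGrp.twist i aZ).act = u := by
  refine ⟨D.hY.2.1.lift u v e ≫ fst H (G ⊗ Z), ?_⟩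
  have e2 : D.hY.2.1.lift u v e = lift (D.hY.2.1.lift u v e ≫ fst H (G ⊗ Z)) v := by
    apply CartesianMonoidalCategory.hom_ext
    · rw [lift_fst]
    · rw [lift_snd, D.hY.2.1.lift_snd]
  have e3 := D.hY.2.1.lift_fst u v e
  rw [e2] at e3
  exact e3

theorem equivariant :
    AlgGrp.Action.IsEquivariant
      ((NonAbH1.trivialAction G).prod (AlgGrp.Action.trivial G (Z' j c))) aY' (j' j c aY') := by
  change ((NonAbH1.trivialAction G).prod (AlgGrp.Action.trivial G (Z' j c))).act ≫ j' j c aY' =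
    (G ◁ j' j c aY') ≫ aY'.act
  apply AlgGrp.Action.hom_ext_lift₂
  intro T k p
  obtain ⟨g, z', rfl⟩ := decomp p
  have e1 : lift k (lift g z') ≫
      ((NonAbH1.trivialAction G).prod (AlgGrp.Action.trivial G (Z' j c))).act =
      lift (k * g) z' := by
    rw [AlgGrp.Action.lift_prod_act, AlgGrp.Action.lift_trivial_act]
    congr 1
  rw [← Category.assoc, e1, j'_pt, lift_whiskerLeft_assoc, j'_pt, AlgGrp.Action.lift_mul_act]

theorem cart :
    IsPullback (ChGrp.twist i D.aZ').act (snd H (G ⊗ Z' j c)) (j' j c aY') (j' j c aY') := by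
  haveI : Mono (G ◁ c' j c) := monoW
  refine isPullback_of_points _ _ _ _ ?_ ?_ ?_
  · rw [← cancel_mono c]
    apply AlgGrp.Action.hom_ext_lift₂
    intro T h p
    have l : lift h p ≫ ((ChGrp.twist i D.aZ').act ≫ j' j c aY') ≫ c =
        ((lift h p ≫ (ChGrp.twist i D.aZ').act) ≫ j' j c aY') ≫ c := by
      simp only [Category.assoc]
    have r : lift h p ≫ (snd H (G ⊗ Z' j c) ≫ j' j c aY') ≫ c = (p ≫ j' j c aY') ≫ c := by
      rw [← Category.assoc, ← Category.assoc, lift_snd]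
    rw [l, D.pc, D.tw, Category.assoc, D.hY.2.1.w, lift_snd_assoc, r, D.pc]
  · intro T p₁ p₂ h12
    have e : (p₁ ≫ (G ◁ c' j c)) ≫ j = (p₂ ≫ (G ◁ c' j c)) ≫ j := by
      rw [← D.pc, ← D.pc, h12]
    obtain ⟨h₀, hh⟩ := D.exists_g _ _ e
    refine ⟨lift h₀ p₂, ?_, lift_snd _ _⟩
    rw [← cancel_mono (G ◁ c' j c), D.tw, hh]
  · intro T s t h1 h2
    obtain ⟨h₁, p, rfl⟩ := decomp s
    obtain ⟨h₂, p', rfl⟩ := decomp t
    rw [lift_snd, lift_snd] at h2
    subst h2
    have h3 : (lift h₁ p ≫ (ChGrp.twist i D.aZ').act) ≫ (G ◁ c' j c) =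
        (lift h₂ p ≫ (ChGrp.twist i D.aZ').act) ≫ (G ◁ c' j c) :=
      congrArg (fun k => k ≫ (G ◁ c' j c)) h1
    rw [D.tw, D.tw] at h3
    have e : lift h₁ (p ≫ (G ◁ c' j c)) = lift h₂ (p ≫ (G ◁ c' j c)) :=
      D.hY.2.1.hom_ext h3 (by rw [lift_snd, lift_snd])
    have e' := congrArg (fun k => k ≫ fst H (G ⊗ Z)) e
    simp only [lift_fst] at e'
    rw [e']

theorem loc :
    NonAbH1.IsLocallyTrivialFor Scheme.fppfPrecoverage
      (Over.mk (j' j c aY').left : Over Y'.left) := by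
  obtain ⟨R₀, hR₀, hs⟩ := D.hY.2.2
  obtain ⟨J, V, gc, rfl⟩ := R₀.exists_eq_ofArrows
  choose s hs' using fun α => hs (gc α) (Presieve.ofArrows.mk α)
  have hYw : ∀ α : J, s α ≫ (G ⊗ Z).hom = gc α ≫ Y.hom := fun α => by
    have hs'' : s α ≫ j.left = gc α := hs' α
    rw [← hs'', Category.assoc, Over.w]
  have hcw : c.left ≫ Y.hom = Y'.hom := Over.w c
  refine ⟨Presieve.ofArrows (fun α => pullback c.left (gc α))
    (fun α => pullback.fst c.left (gc α)), ?_, ?_⟩
  · exact Precoverage.mem_coverings_of_isPullback (J := Scheme.fppfPrecoverage) gc hR₀ c.left _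
      (fun α => pullback.snd c.left (gc α)) (fun α => IsPullback.of_hasPullback _ _)
  · rintro S' f ⟨α⟩
    have hs'' : s α ≫ j.left = gc α := hs' α
    let W : Over S := Over.mk (pullback.fst c.left (gc α) ≫ Y'.hom)
    let w' : W ⟶ Y' := Over.homMk (pullback.fst c.left (gc α)) rfl
    have hp : (pullback.snd c.left (gc α) ≫ s α) ≫ (G ⊗ Z).hom =
        pullback.fst c.left (gc α) ≫ Y'.hom := by
      rw [Category.assoc, hYw α, ← Category.assoc, ← pullback.condition, Category.assoc, hcw]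
    let p : W ⟶ G ⊗ Z := Over.homMk (pullback.snd c.left (gc α) ≫ s α) hp
    have hpj : p ≫ j = w' ≫ c := by
      apply Over.OverMorphism.ext
      change (pullback.snd c.left (gc α) ≫ s α) ≫ j.left = pullback.fst c.left (gc α) ≫ c.left
      rw [Category.assoc, hs'', pullback.condition]
    obtain ⟨g, z, hgz⟩ := decomp p
    rw [hgz] at hpj
    have e3 : lift (1 : W ⟶ G) z ≫ j = (lift g⁻¹ w' ≫ aY'.act) ≫ c := by
      rw [D.c_act, ← hpj, D.equiv_pt, inv_mul_cancel]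
    let z' : W ⟶ Z' j c := pullback.lift z (lift g⁻¹ w' ≫ aY'.act) (by rw [e0_pt]; exact e3)
    have hz'2 : z' ≫ y' j c = lift g⁻¹ w' ≫ aY'.act := pullback.lift_snd _ _ _
    refine ⟨(lift g z').left, ?_⟩
    change (lift g z').left ≫ (j' j c aY').left = pullback.fst c.left (gc α)
    have hsec : lift g z' ≫ j' j c aY' = w' := by
      rw [j'_pt, hz'2, ← AlgGrp.Action.lift_mul_act, mul_inv_cancel, AlgGrp.Action.lift_one_act]
    rw [← Over.comp_left, hsec]
    rfl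

end Dat

/-- S19681 over a general base. -/
theorem main (i : H ⟶ G) [IsMonHom i] (aZ : AlgGrp.Action H Z) (aY : AlgGrp.Action G Y)
    (j : G ⊗ Z ⟶ Y) (hY : ChGrp.IsBalProd Scheme.fppfPrecoverage i aZ aY j)
    (c : Y' ⟶ Y) [IsClosedImmersion c.left]
    (aY' : AlgGrp.Action G Y') (hc : AlgGrp.Action.IsEquivariant aY' aY c) :
    ∃ (Z'' : Over S) (c'' : Z'' ⟶ Z) (aZ'' : AlgGrp.Action H Z'') (j'' : G ⊗ Z'' ⟶ Y'),
      IsClosedImmersion c''.left ∧ AlgGrp.Action.IsEquivariant aZ'' aZ c'' ∧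
      j'' ≫ c = (G ◁ c'') ≫ j ∧ ChGrp.IsBalProd Scheme.fppfPrecoverage i aZ'' aY' j'' := by
  haveI : Mono c := (Over.forget S).mono_of_mono_map (by change Mono c.left; infer_instance)
  have D : Dat i aZ aY j c aY' := ⟨hY, hc⟩
  refine ⟨Z' j c, c' j c, D.aZ', Dat.j' j c aY', ?_, D.aZ'_eqv, D.hj',
    D.equivariant, D.cart, D.loc⟩
  have h1 : IsPullback (c' j c).left (y' j c).left (e0 j).left c.left :=
    isPullback_left (IsPullback.of_hasPullback (e0 j) c)
  exact MorphismProperty.of_isPullback (P := @IsClosedImmersion) h1.flip inferInstance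

end

end Groth.Agent.Helper2.BalSub
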